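import Mathlib

/-!
# Unimodular elements in big projective modules

Modules are studied through a section `i` of a surjection from a free module, so that the coordinate
functions are `i p l`.
-/

set_option autoImplicit false
universe u v

namespace Groth.Agent.H1Bass

variable {R : Type u} [CommRing R]

/-- Locally nowhere finitely generated. -/
def NowhereFinite (R : Type u) [CommRing R] (P : Type v) [AddCommGroup P] [Module R P] : Prop :=
  ∀ (m : Ideal R), m.IsMaximal → ∀ Y : Submodule R P, Y.FG → ∃ p : P, ∀ u : R, u ∉ m → u • p ∉ Y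

theorem nowhereFinite_of_not_finite {P : Type v} [AddCommGroup P] [Module R P]
    (hP : ∀ (m : Ideal R) [m.IsMaximal],
      ¬ Module.Finite (Localization.AtPrime m) (LocalizedModule m.primeCompl P)) : NowhereFinite R P := by
  classical
  intro m hm Y hY
  by_contra! h
  refine hP m ⟨?_⟩
  obtain ⟨s, rfl⟩ := hY
  refine ⟨s.image (LocalizedModule.mkLinearMap m.primeCompl P), eq_top_iff.mpr fun x _ => ?_⟩
  obtain ⟨⟨p, t⟩, rfl⟩ := IsLocalizedModule.mk'_surjective m.primeCompl (LocalizedModule.mkLinearMap m.primeCompl P) x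
  obtain ⟨u, hu, hup⟩ := h p
  rw [Finset.coe_image, Function.uncurry_apply_pair]
  have h1 : LocalizedModule.mkLinearMap m.primeCompl P (u • p) ∈ Submodule.span (Localization.AtPrime m)
      (LocalizedModule.mkLinearMap m.primeCompl P '' (s : Set P)) := by
    have := Submodule.mem_map_of_mem (f := LocalizedModule.mkLinearMap m.primeCompl P) hup
    rw [Submodule.map_span] at this
    exact Submodule.span_le_restrictScalars R (Localization.AtPrime m) _ this
  rw [show IsLocalizedModule.mk' (LocalizedModule.mkLinearMap m.primeCompl P) p t =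
      IsLocalization.mk' (Localization.AtPrime m) (1 : R) (t * ⟨u, hu⟩) •
        LocalizedModule.mkLinearMap m.primeCompl P (u • p) by
    rw [← IsLocalizedModule.mk'_one m.primeCompl, IsLocalizedModule.mk'_smul_mk', one_smul, mul_one]
    exact (IsLocalizedModule.mk'_cancel_right _ p t ⟨u, hu⟩).symm]
  exact Submodule.smul_mem _ _ h1

section coord

variable {P : Type v} [AddCommGroup P] [Module R P] {i : P →ₗ[R] (P →₀ R)}
  (hi : ∀ p, Finsupp.linearCombination R (id : P → P) (i p) = p)

include hi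

theorem eq_sum_coord (p : P) : p = ∑ l ∈ (i p).support, i p l • l := by
  conv_lhs => rw [← hi p]
  rw [Finsupp.linearCombination_apply, Finsupp.sum]
  rfl

/-- If finitely many coordinates detect everything modulo a prime, the module is finite there. -/
theorem exists_fg_of_coord (m : Ideal R) [m.IsPrime] (T : Finset P)
    (hT : ∀ p, (∀ t ∈ T, i p t ∈ m) → ∀ j, i p j ∈ m) :
    ∃ Y : Submodule R P, Y.FG ∧ ∀ p, ∃ u ∉ m, u • p ∈ Y := by
  classical
  let good : Set ℕ := {k | ∃ T' : Finset P, T'.card = k ∧ ∀ p, (∀ t ∈ T', i p t ∈ m) → ∀ j, i p j ∈ m}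
  have hne : good.Nonempty := ⟨_, T, rfl, hT⟩
  obtain ⟨T', hcard, hT'⟩ := Nat.sInf_mem hne
  have hmin : ∀ t : T', ∃ p : P, i p t ∉ m ∧ ∀ t' : T', t' ≠ t → i p t' ∈ m := by
    intro t
    by_contra! h
    have hlt : (T'.erase t.1).card < sInf good := hcard ▸ Finset.card_erase_lt_of_mem t.2
    refine (not_le.mpr hlt) (Nat.sInf_le ⟨_, rfl, fun p hp => hT' p fun t' ht' => ?_⟩)
    by_cases heq : t' = t.1
    · subst heq
      by_contra hnot
      obtain ⟨t'', hne', hn⟩ := h p hnot
      exact hn (hp _ (Finset.mem_erase.mpr ⟨fun he => hne' (Subtype.ext he), t''.2⟩))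
    · exact hp _ (Finset.mem_erase.mpr ⟨heq, ht'⟩)
  choose w hw1 hw2 using hmin
  let A : Matrix T' T' R := Matrix.of fun a b => i (w b) a
  have hdet : A.det ∉ m := by
    rw [← Ideal.Quotient.eq_zero_iff_mem, RingHom.map_det]
    have hdiag : (Ideal.Quotient.mk m).mapMatrix A =
        Matrix.diagonal fun a => Ideal.Quotient.mk m (A a a) := by
      ext a b
      by_cases hab : a = b
      · subst hab
        simp
      · rw [Matrix.diagonal_apply_ne _ hab]
        exact Ideal.Quotient.eq_zero_iff_mem.mpr (hw2 b a hab)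
    rw [hdiag, Matrix.det_diagonal, Finset.prod_eq_zero_iff]
    rintro ⟨a, -, ha⟩
    exact hw1 a (Ideal.Quotient.eq_zero_iff_mem.mp ha)
  let c : P → T' → R := fun p => A.adjugate.mulVec fun a => i p a
  refine ⟨Submodule.span R (Finset.univ.image w : Finset P), Submodule.fg_span (Finset.finite_toSet _), fun p => ?_⟩
  -- the projection onto the kernel of the coordinates in `T'`
  let q : P → P := fun p => A.det • p - ∑ b, c p b • w b
  have hqT : ∀ p (a : T'), i (q p) a = 0 := by
    intro p a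
    have h1 : (A.mulVec (c p)) a = A.det * i p a := by
      rw [show A.mulVec (c p) = (A * A.adjugate).mulVec fun a => i p a from Matrix.mulVec_mulVec _ _ _,
        Matrix.mul_adjugate, Matrix.smul_mulVec, Matrix.one_mulVec]
      rfl
    have h2 : ∀ b, c p b * i (w b) a = A a b * c p b := fun b => mul_comm _ _
    simp only [q, map_sub, map_smul, map_sum, Finsupp.sub_apply, Finsupp.smul_apply,
      Finsupp.finsetSum_apply, smul_eq_mul, h2]
    rw [← h1, sub_eq_zero]
    rfl
  have hqlin : ∀ (U : Finset P) (f : P → R), q (∑ l ∈ U, f l • l) = ∑ l ∈ U, f l • q l := by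
    intro U f
    let qL : P →ₗ[R] P := A.det • LinearMap.id -
      ∑ b : T', (LinearMap.smulRight (∑ a : T', A.adjugate b a • (Finsupp.lapply a.1).comp i) (w b))
    have hq : ∀ p, qL p = q p := fun p => by
      simp [qL, q, c, Matrix.mulVec, dotProduct]
    simp only [← hq, map_sum, map_smul]
  let p' := q p
  let U := (i p').support
  have hsum : A.det • p' = ∑ l ∈ U, i p' l • q l := by
    rw [← hqlin, ← eq_sum_coord hi p']
    have hc : c p' = 0 := by
      have : (fun a : T' => i p' a) = 0 := funext fun a => hqT p a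
      simp only [c, this, Matrix.mulVec_zero]
    show A.det • p' = A.det • p' - ∑ b, c p' b • w b
    simp [hc]
  let B : Matrix U U R := Matrix.of fun a l => i (q l.1) a.1
  have hB : ∀ a l, B a l ∈ m := fun a l => hT' (q l.1) (fun t ht => (hqT l.1 ⟨t, ht⟩) ▸ m.zero_mem) a.1
  let M' := A.det • (1 : Matrix U U R) - B
  have hker : M'.mulVec (fun l => i p' l) = 0 := by
    funext a
    have h3 := congr(i $hsum a.1)
    simp only [map_smul, map_sum, Finsupp.smul_apply, Finsupp.finsetSum_apply, smul_eq_mul] at h3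
    rw [Matrix.sub_mulVec, Matrix.smul_mulVec, Matrix.one_mulVec, Pi.sub_apply, Pi.smul_apply,
      smul_eq_mul, Pi.zero_apply, sub_eq_zero, h3, ← Finset.sum_coe_sort U]
    exact Finset.sum_congr rfl fun l _ => mul_comm _ _
  have hu : M'.det ∉ m := by
    rw [← Ideal.Quotient.eq_zero_iff_mem, RingHom.map_det]
    have : (Ideal.Quotient.mk m).mapMatrix M' = Ideal.Quotient.mk m A.det • (1 : Matrix U U (R ⧸ m)) := by
      ext a l
      by_cases h : a = l
      · subst h
        simp [M', Ideal.Quotient.eq_zero_iff_mem.mpr (hB _ _)]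
      · simp [M', h, Ideal.Quotient.eq_zero_iff_mem.mpr (hB _ _)]
    rw [this, Matrix.det_smul, Matrix.det_one, mul_one]
    exact pow_ne_zero _ fun h0 => hdet (Ideal.Quotient.eq_zero_iff_mem.mp h0)
  have hzero : M'.det • p' = 0 := by
    rw [eq_sum_coord hi p', Finset.smul_sum]
    refine Finset.sum_eq_zero fun l hl => ?_
    have h4 : (M'.adjugate * M').mulVec (fun l : U => i p' l) ⟨l, hl⟩ = 0 := by
      rw [← Matrix.mulVec_mulVec, hker, Matrix.mulVec_zero]
      rfl
    rw [Matrix.adjugate_mul, Matrix.smul_mulVec, Matrix.one_mulVec, Pi.smul_apply, smul_eq_mul] at h4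
    rw [smul_smul, h4, zero_smul]
  refine ⟨M'.det * A.det, (Ideal.IsPrime.mul_notMem ‹_› hu hdet), ?_⟩
  have : M'.det • p' = 0 := hzero
  simp only [p', q, smul_sub, sub_eq_zero, smul_smul] at this
  rw [this]
  refine Submodule.smul_mem _ _ (sum_mem fun b _ => Submodule.smul_mem _ _ (Submodule.subset_span ?_))
  simp

/-- Coordinates of a nowhere finite module escape every finite set, also on cofinite submodules. -/
theorem exists_coord_notMem (hP : NowhereFinite R P) (m : Ideal R) [hm : m.IsMaximal]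
    (M N : Submodule R P) (hN : N.FG) (hMN : M ⊔ N = ⊤) (S : Finset P) :
    ∃ y ∈ M, ∃ j ∉ S, i y j ∉ m := by
  classical
  by_contra! h
  obtain ⟨g, rfl⟩ := hN
  let S' := S ∪ g.biUnion fun x => (i x).support
  have hout : ∀ p, ∀ j ∉ S', i p j ∈ m := by
    intro p j hj
    simp only [S', Finset.mem_union, Finset.mem_biUnion, not_or, not_exists, not_and] at hj
    have hp : p ∈ M ⊔ Submodule.span R (g : Set P) := hMN ▸ Submodule.mem_top
    obtain ⟨y, hy, z, hz, rfl⟩ := Submodule.mem_sup.mp hp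
    have hz' : i z j = 0 := by
      clear hp
      induction hz using Submodule.span_induction with
      | mem x hx => simpa using hj.2 x hx
      | zero => simp
      | add a b _ _ ha hb => simp [ha, hb]
      | smul c a _ ha => simp [ha]
    simpa [hz'] using h y hy j hj.1
  obtain ⟨Y, hY, hYm⟩ := exists_fg_of_coord hi m S' fun p hp j => by
    by_cases hj : j ∈ S'
    · exact hp j hj
    · exact hout p j hj
  obtain ⟨p, hp⟩ := hP m hm Y hY
  obtain ⟨u, hu, hu'⟩ := hYm p
  exact hp u hu hu'

end coord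

theorem fg_of_submodule_pi_quotient (J : Ideal R) [IsNoetherianRing (R ⧸ J)] {κ : Type*} [Finite κ]
    (X : Submodule R (κ → R ⧸ J)) : X.FG := by
  let X' : Submodule (R ⧸ J) (κ → R ⧸ J) :=
    { X.toAddSubmonoid with
      smul_mem' := fun c x hx => by
        obtain ⟨c, rfl⟩ := Ideal.Quotient.mk_surjective c
        have : Ideal.Quotient.mk J c • x = c • x := funext fun a => by
          simp [Algebra.smul_def]
        exact this ▸ X.smul_mem c hx }
  have := Submodule.FG.restrictScalars_of_surjective (R := R) (IsNoetherian.noetherian X')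
    Ideal.Quotient.mk_surjective
  exact this

/-- Kernels of maps to finite free `R ⧸ J`-modules are cofinite. -/
theorem exists_sup_eq (J : Ideal R) [IsNoetherianRing (R ⧸ J)] {P : Type v} [AddCommGroup P] [Module R P]
    {κ : Type*} [Finite κ] (f : P →ₗ[R] (κ → R ⧸ J)) (M N : Submodule R P) (hN : N.FG) (hMN : M ⊔ N = ⊤) :
    ∃ N' : Submodule R P, N'.FG ∧ (M ⊓ LinearMap.ker f) ⊔ N' = ⊤ := by
  classical
  obtain ⟨g, hg⟩ := fg_of_submodule_pi_quotient J (M.map f)
  have hsub : ∀ x : g, ∃ y ∈ M, f y = x.1 := fun x => by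
    have : x.1 ∈ M.map f := hg ▸ Submodule.subset_span x.2
    exact Submodule.mem_map.mp this
  choose y hyM hy using hsub
  refine ⟨N ⊔ Submodule.span R (Finset.univ.image y : Finset P),
    hN.sup (Submodule.fg_span (Finset.finite_toSet _)), eq_top_iff.mpr ?_⟩
  rw [← hMN]
  refine sup_le (fun p hp => ?_) (le_sup_left.trans le_sup_right)
  have hfp : f p ∈ (Submodule.span R (Finset.univ.image y : Finset P)).map f := by
    rw [Submodule.map_span]
    have : f p ∈ Submodule.span R (g : Set (κ → R ⧸ J)) := hg ▸ Submodule.mem_map_of_mem hp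
    refine Submodule.span_mono ?_ this
    intro x hx
    exact ⟨y ⟨x, hx⟩, by simp, hy ⟨x, hx⟩⟩
  obtain ⟨z, hz, hzp⟩ := Submodule.mem_map.mp hfp
  have hzM : z ∈ M := (Submodule.span_le (p := M)).mpr (fun x hx => by
    obtain ⟨a, -, rfl⟩ := Finset.mem_image.mp (Finset.mem_coe.mp hx)
    exact hyM a) hz
  refine Submodule.mem_sup.mpr ⟨p - z, ⟨sub_mem hp hzM, ?_⟩, z, Submodule.mem_sup_right hz, sub_add_cancel _ _⟩
  simp [hzp]

variable [IsNoetherianRing (R ⧸ (⊥ : Ideal R).jacobson)]

/-- The basic lemma: unimodular elements in translates of cofinite submodules. -/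
theorem exists_unimodular {P : Type v} [AddCommGroup P] [Module R P] (i : P →ₗ[R] (P →₀ R))
    (hi : ∀ p, Finsupp.linearCombination R (id : P → P) (i p) = p) (hP : NowhereFinite R P)
    (x₀ : P) (M N : Submodule R P) (hN : N.FG) (hMN : M ⊔ N = ⊤) (T₀ : Finset P) :
    ∃ m ∈ M, ∃ φ : P →ₗ[R] R, φ (x₀ + m) = 1 ∧ ∀ y, (∀ j ∉ T₀, i y j = 0) → φ y = 0 := by
  classical
  let J := (⊥ : Ideal R).jacobson
  let Φ : Submodule R (P →ₗ[R] R) :=
    Submodule.span R ((fun j => (Finsupp.lapply j).comp i) '' {j | j ∉ T₀})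
  let o : P → Ideal R := fun x => J ⊔ Φ.map (LinearMap.applyₗ x)
  let os : Set (Ideal (R ⧸ J)) := {I | ∃ m ∈ M, I = (o (x₀ + m)).map (Ideal.Quotient.mk J)}
  obtain ⟨_, ⟨m, hm, rfl⟩, hmax⟩ := (wellFounded_gt (α := Ideal (R ⧸ J))).has_min os ⟨_, 0, M.zero_mem, rfl⟩
  let x := x₀ + m
  have htop : o x = ⊤ := by
    by_contra hne
    obtain ⟨n, hn, hle⟩ := Ideal.exists_le_maximal _ hne
    let S := T₀ ∪ (i x).support
    let f : P →ₗ[R] (S → R ⧸ J) :=
      LinearMap.pi fun j => (Ideal.Quotient.mkₐ R J).toLinearMap.comp ((Finsupp.lapply j.1).comp i)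
    obtain ⟨N', hN', hMN'⟩ := exists_sup_eq J f M N hN hMN
    obtain ⟨y, ⟨hyM, hyf⟩, j, hjS, hjn⟩ := exists_coord_notMem hi hP n _ N' hN' hMN' S
    have hyS : ∀ s ∈ S, i y s ∈ J := fun s hs =>
      Ideal.Quotient.eq_zero_iff_mem.mp (congrFun (LinearMap.mem_ker.mp hyf) ⟨s, hs⟩)
    simp only [S, Finset.mem_union, not_or] at hjS
    have hmem : ∀ z (k : P), k ∉ T₀ → i z k ∈ o z := fun z k hk =>
      Submodule.mem_sup_right ⟨(Finsupp.lapply k).comp i, Submodule.subset_span ⟨k, hk, rfl⟩, rfl⟩
    have hle' : o x ≤ o (x + y) := by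
      refine sup_le le_sup_left ?_
      rw [Submodule.map_span, Submodule.span_le]
      rintro _ ⟨_, ⟨k, hk, rfl⟩, rfl⟩
      show i x k ∈ o (x + y)
      by_cases hks : k ∈ (i x).support
      · have h1 : i y k ∈ o (x + y) := Submodule.mem_sup_left (hyS k (Finset.mem_union_right _ hks))
        have h2 := hmem (x + y) k hk
        rw [map_add, Finsupp.add_apply] at h2
        exact (Submodule.add_mem_iff_left _ h1).mp h2
      · rw [Finsupp.notMem_support_iff.mp hks]
        exact zero_mem _
    have hj : i y j ∈ o (x + y) := by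
      have h2 := hmem (x + y) j hjS.1
      rwa [map_add, Finsupp.add_apply, Finsupp.notMem_support_iff.mp hjS.2, zero_add] at h2
    refine hmax ((o (x + y)).map (Ideal.Quotient.mk J)) ⟨m + y, add_mem hm hyM, by rw [← add_assoc]⟩
      (lt_of_le_of_ne (Ideal.map_mono hle') fun heq => hjn (hle ?_))
    have hJx : J ≤ o x := le_sup_left
    have := congrArg (Ideal.comap (Ideal.Quotient.mk J)) heq
    rw [Ideal.comap_map_of_surjective _ Ideal.Quotient.mk_surjective, Ideal.comap_map_of_surjective _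
      Ideal.Quotient.mk_surjective, ← RingHom.ker_eq_comap_bot, Ideal.mk_ker,
      sup_eq_left.mpr hJx, sup_eq_left.mpr (hJx.trans hle')] at this
    exact this ▸ hj
  obtain ⟨a, ha, _, ⟨φ, hφ, rfl⟩, hab⟩ := Submodule.mem_sup.mp (htop ▸ Submodule.mem_top (x := (1 : R)))
  have hu : IsUnit (φ x) := by
    have : φ x = 1 - a := eq_sub_of_add_eq' hab
    rw [this]
    have := (Ideal.mem_jacobson_bot.mp ha) (-1)
    simpa [sub_eq_neg_add] using this
  obtain ⟨v, hv⟩ := hu
  refine ⟨m, hm, (↑v⁻¹ : R) • φ, ?_, fun y hy => ?_⟩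
  · show (↑v⁻¹ : R) * φ x = 1
    rw [← hv, Units.inv_mul]
  · suffices φ y = 0 by simp [this]
    refine Submodule.span_induction ?_ (by simp) (fun a b _ _ ha hb => by simp [ha, hb])
      (fun c a _ ha => by simp [ha]) hφ
    rintro _ ⟨j, hj, rfl⟩
    exact hy j hj

theorem exists_section (P : Type v) [AddCommGroup P] [Module R P] [Module.Projective R P] :
    ∃ i : P →ₗ[R] (P →₀ R), ∀ p, Finsupp.linearCombination R (id : P → P) (i p) = p :=
  Module.projective_def.mp ‹_›

/-- One copy of `R` can be cancelled from a finite free summand through `s`. -/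
theorem cancel_one {P : Type v} [AddCommGroup P] [Module R P] [Module.Projective R P]
    (hP : NowhereFinite R P) {E : Type*} [AddCommGroup E] [Module R E] [Module.Finite R E]
    (j : E →ₗ[R] P × R) (r : P × R →ₗ[R] E) (hrj : ∀ a, r (j a) = a) (a : E) (s : P) (hs : j a = (s, 0)) :
    ∃ (j' : E →ₗ[R] P) (r' : P →ₗ[R] E), (∀ a, r' (j' a) = a) ∧ j' a = s := by
  classical
  let J := (⊥ : Ideal R).jacobson
  let C := LinearMap.ker r
  let p : P × R →ₗ[R] C := (LinearMap.id - j.comp r).codRestrict C fun z => by simp [C, hrj]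
  have hp : ∀ c : C, p c.1 = c := fun c => Subtype.ext (by simp [p, LinearMap.mem_ker.mp c.2])
  haveI : Module.Projective R C := Module.Projective.of_split C.subtype p (LinearMap.ext hp)
  have hC : NowhereFinite R C := by
    intro m hm Y hY
    obtain ⟨x, hx⟩ := hP m hm ((Y.map C.subtype ⊔ LinearMap.range j).map (LinearMap.fst R P R))
      (((hY.map _).sup (by rw [LinearMap.range_eq_map]; exact Module.Finite.fg_top.map _)).map _)
    refine ⟨p (x, 0), fun u hu huY => hx u hu ⟨u • (x, 0), ?_, rfl⟩⟩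
    have : u • ((x, 0) : P × R) = (u • p (x, 0) : C).1 + j (r (u • (x, 0))) := by
      simp only [p, SetLike.val_smul, LinearMap.codRestrict_apply, LinearMap.sub_apply, LinearMap.id_coe, id_eq,
        LinearMap.comp_apply, map_smul, smul_sub, sub_add_cancel]
    rw [this]
    exact Submodule.add_mem_sup (Submodule.mem_map_of_mem huY) ⟨_, rfl⟩
  obtain ⟨i, hi⟩ := exists_section (R := R) C
  let e : P × R := (0, 1)
  let ψ : P × R →ₗ[R] R := LinearMap.snd R P R
  let f : C →ₗ[R] (Unit → R ⧸ J) :=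
    LinearMap.pi fun _ => (Ideal.Quotient.mkₐ R J).toLinearMap.comp (ψ.comp C.subtype)
  obtain ⟨N, hN, hMN⟩ := exists_sup_eq J f ⊤ ⊥ Submodule.fg_bot (by simp)
  obtain ⟨d, ⟨-, hd⟩, φ, hφd, hφ0⟩ := exists_unimodular i hi hC 0 _ N hN hMN (i (p e)).support
  rw [zero_add] at hφd
  have hψd : ψ d.1 ∈ J := Ideal.Quotient.eq_zero_iff_mem.mp (congrFun (LinearMap.mem_ker.mp hd) ())
  have hφe : φ (p e) = 0 := hφ0 _ fun k hk => Finsupp.notMem_support_iff.mp hk
  obtain ⟨v, hv⟩ : IsUnit (1 + ψ d.1) := by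
    have := (Ideal.mem_jacobson_bot.mp hψd) 1
    simpa [add_comm] using this
  let φ' : P × R →ₗ[R] R := φ.comp p
  have hφ'e : φ' e = 0 := hφe
  have hφ'd : φ' d.1 = 1 := by simp [φ', hp, hφd]
  -- the automorphism taking `e` to `d`
  let A₁ : P × R →ₗ[R] P × R := LinearMap.id - φ'.smulRight e
  let B₁ : P × R →ₗ[R] P × R := LinearMap.id + φ'.smulRight e
  let A₂ : P × R →ₗ[R] P × R := LinearMap.id + ψ.smulRight d.1
  let B₂ : P × R →ₗ[R] P × R := LinearMap.id - ((↑v⁻¹ : R) • ψ).smulRight d.1
  let fw : P × R →ₗ[R] P × R := A₁.comp A₂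
  let bw : P × R →ₗ[R] P × R := B₂.comp B₁
  have h1 : ∀ w, B₁ (A₁ w) = w := by
    intro w
    simp [A₁, B₁, hφ'e]
  have h1' : ∀ w, A₁ (B₁ w) = w := by
    intro w
    simp [A₁, B₁, hφ'e]
  have h3 : (↑v⁻¹ : R) * (1 + ψ d.1) = 1 := by rw [← hv, Units.inv_mul]
  have h2 : ∀ w, B₂ (A₂ w) = w := by
    intro w
    simp only [A₂, B₂, LinearMap.add_apply, LinearMap.sub_apply, LinearMap.id_coe, id_eq,
      LinearMap.smulRight_apply, LinearMap.smul_apply, map_add, map_smul, smul_eq_mul]
    match_scalars <;> first | ring1 | linear_combination (-(ψ w)) * h3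
  have h2' : ∀ w, A₂ (B₂ w) = w := by
    intro w
    simp only [A₂, B₂, LinearMap.add_apply, LinearMap.sub_apply, LinearMap.id_coe, id_eq,
      LinearMap.smulRight_apply, LinearMap.smul_apply, map_sub, map_smul, smul_eq_mul]
    match_scalars <;> first | ring1 | linear_combination (-(ψ w)) * h3
  have hbf : ∀ z, bw (fw z) = z := fun z => by
    show B₂ (B₁ (A₁ (A₂ z))) = z
    rw [h1, h2]
  have hfb : ∀ z, fw (bw z) = z := fun z => by
    show A₁ (A₂ (B₂ (B₁ z))) = z
    rw [h2', h1']
  have hfe : fw e = d.1 := by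
    simp only [fw, A₁, A₂, LinearMap.comp_apply, LinearMap.add_apply, LinearMap.sub_apply, LinearMap.id_coe, id_eq,
      LinearMap.smulRight_apply, map_add, map_smul, hφ'e, hφ'd]
    simp [ψ, e]
  refine ⟨(LinearMap.fst R P R).comp (bw.comp j), (r.comp fw).comp (LinearMap.inl R P R), fun b => ?_, ?_⟩
  · have hz : (((bw (j b)).1, (0 : R)) : P × R) = bw (j b) - (bw (j b)).2 • e := by
      ext <;> simp [e]
    show r (fw ((bw (j b)).1, 0)) = b
    rw [hz, map_sub, map_smul, hfb, hfe, map_sub, map_smul, hrj, LinearMap.mem_ker.mp d.2, smul_zero, sub_zero]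
  · have hps : φ' (j a) = 0 := by
      have : p (j a) = 0 := Subtype.ext (by simp [p, hrj])
      simp [φ', this]
    have hfix : bw (j a) = j a := by
      simp only [bw, B₁, B₂, LinearMap.comp_apply, LinearMap.add_apply, LinearMap.sub_apply, LinearMap.id_coe, id_eq,
        LinearMap.smulRight_apply, hps, zero_smul, add_zero, LinearMap.smul_apply]
      rw [hs]
      simp [ψ]
    show (bw (j a)).1 = s
    rw [hfix, hs]

theorem cancel (k : ℕ) {P : Type v} [AddCommGroup P] [Module R P] [Module.Projective R P]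
    (hP : NowhereFinite R P) {E : Type*} [AddCommGroup E] [Module R E] [Module.Finite R E]
    (j : E →ₗ[R] P × (Fin k → R)) (r : P × (Fin k → R) →ₗ[R] E) (hrj : ∀ a, r (j a) = a) (a : E) (s : P)
    (hs : j a = (s, 0)) : ∃ (j' : E →ₗ[R] P) (r' : P →ₗ[R] E), (∀ a, r' (j' a) = a) ∧ j' a = s := by
  induction k with
  | zero =>
    refine ⟨(LinearMap.fst R P _).comp j, r.comp (LinearMap.inl R P _), fun b => ?_, by simp [hs]⟩
    have : (((j b).1, 0) : P × (Fin 0 → R)) = j b := Prod.ext rfl (Subsingleton.elim _ _)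
    show r ((j b).1, 0) = b
    rw [this, hrj]
  | succ k ih =>
    let F : (P × (Fin (k + 1) → R)) ≃ₗ[R] ((P × (Fin k → R)) × R) :=
      { toFun := fun z => ((z.1, Fin.tail z.2), z.2 0)
        invFun := fun z => (z.1.1, Fin.cons z.2 z.1.2)
        map_add' := fun _ _ => rfl
        map_smul' := fun _ _ => rfl
        left_inv := fun z => by simp
        right_inv := fun z => by simp }
    have hP' : NowhereFinite R (P × (Fin k → R)) := by
      intro m hm Y hY
      obtain ⟨x, hx⟩ := hP m hm (Y.map (LinearMap.fst R P _)) (hY.map _)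
      exact ⟨(x, 0), fun u hu h => hx u hu ⟨_, h, rfl⟩⟩
    obtain ⟨j', r', h1, h2⟩ := cancel_one hP' (F.toLinearMap.comp j) (r.comp F.symm.toLinearMap)
      (fun b => by simp [hrj]) a ((s, 0) : P × (Fin k → R)) (by
        show F (j a) = _
        rw [hs]
        simp [F]
        rfl)
    exact ih j' r' h1 h2

/-- Every element of a big projective module lies in a finite free direct summand. -/
theorem exists_free_summand {P : Type v} [AddCommGroup P] [Module R P] [Module.Projective R P]
    (hP : NowhereFinite R P) (s : P) :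
    ∃ (k : ℕ) (j : (Fin k → R) →ₗ[R] P) (r : P →ₗ[R] (Fin k → R)),
      (∀ a, r (j a) = a) ∧ j (r s) = s := by
  classical
  obtain ⟨i, hi⟩ := exists_section (R := R) P
  let S := (i s).support
  let y : Fin S.card → P := fun l => (S.equivFin.symm l).1
  let f : P →ₗ[R] (Fin S.card → R) := LinearMap.pi fun l => (Finsupp.lapply (y l)).comp i
  let v : (Fin S.card → R) →ₗ[R] P := Fintype.linearCombination R y
  have hvf : v (f s) = s := by
    conv_rhs => rw [eq_sum_coord hi s]
    rw [Fintype.linearCombination_apply, ← Finset.sum_coe_sort S]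
    exact Fintype.sum_equiv S.equivFin.symm _ _ fun l => rfl
  let j₀ : (Fin S.card → R) →ₗ[R] P × (Fin S.card → R) := v.prod (LinearMap.id - f.comp v)
  let r₀ : P × (Fin S.card → R) →ₗ[R] (Fin S.card → R) :=
    f.comp (LinearMap.fst R P _) + LinearMap.snd R P _
  obtain ⟨j, r, hrj, hja⟩ := cancel S.card hP j₀ r₀ (fun b => by simp [j₀, r₀]) (f s) s
    (by ext <;> simp [j₀, hvf])
  exact ⟨_, j, r, hrj, by rw [← hja, hrj]⟩

end Groth.Agent.H1Bass
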