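import Groth.Agent.H1Bass.Basic

/-!
# Bass's theorem: big countably generated projective modules are free
-/

set_option autoImplicit false
universe u v

namespace Groth.Agent.H1Bass

variable {R : Type u} [CommRing R] [IsNoetherianRing (R ⧸ (⊥ : Ideal R).jacobson)]
  {P : Type v} [AddCommGroup P] [Module R P] [Module.Projective R P]

/-- A step: a finite free summand inside the complement of `e`. -/
theorem exists_step (hP : NowhereFinite R P) (e : P →ₗ[R] P) (hee : ∀ x, e (e x) = e x)
    (hfg : ∃ Y : Submodule R P, Y.FG ∧ ∀ x, e x ∈ Y) (g : P) :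
    ∃ (k : ℕ) (v : (Fin k → R) →ₗ[R] P) (q : P →ₗ[R] (Fin k → R)),
      (∀ a, q (v a) = a) ∧ (∀ a, e (v a) = 0) ∧ (∀ x, q (e x) = 0) ∧ v (q g) = g - e g := by
  let C := LinearMap.ker e
  let p : P →ₗ[R] C := (LinearMap.id - e).codRestrict C fun z => by simp [C, hee]
  have hp : ∀ c : C, p c.1 = c := fun c => Subtype.ext (by simp [p, LinearMap.mem_ker.mp c.2])
  haveI : Module.Projective R C := Module.Projective.of_split C.subtype p (LinearMap.ext hp)
  obtain ⟨Y₀, hY₀, hY₀e⟩ := hfg
  have hC : NowhereFinite R C := by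
    intro m hm Y hY
    obtain ⟨x, hx⟩ := hP m hm (Y.map C.subtype ⊔ Y₀) ((hY.map _).sup hY₀)
    refine ⟨p x, fun u hu huY => hx u hu ?_⟩
    have : u • x = (u • p x : C).1 + e (u • x) := by
      simp only [p, SetLike.val_smul, LinearMap.codRestrict_apply, LinearMap.sub_apply, LinearMap.id_coe,
        id_eq, map_smul, smul_sub, sub_add_cancel]
    rw [this]
    exact Submodule.add_mem_sup (Submodule.mem_map_of_mem huY) (hY₀e _)
  obtain ⟨k, j, r, hrj, hjs⟩ := exists_free_summand hC (p g)
  refine ⟨k, C.subtype.comp j, r.comp p, fun a => ?_, fun a => LinearMap.mem_ker.mp (j a).2, fun x => ?_, ?_⟩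
  · show r (p (j a).1) = a
    rw [hp, hrj]
  · show r (p (e x)) = 0
    rw [show p (e x) = 0 from Subtype.ext (by simp [p, hee]), map_zero]
  · exact congrArg Subtype.val hjs

/-- An idempotent endomorphism with finitely generated image. -/
def State (R : Type u) [CommRing R] (P : Type v) [AddCommGroup P] [Module R P] :=
  {e : P →ₗ[R] P // (∀ x, e (e x) = e x) ∧ ∃ Y : Submodule R P, Y.FG ∧ ∀ x, e x ∈ Y}

set_option maxHeartbeats 800000 in
theorem free_of_countablyGenerated (hP : NowhereFinite R P) {s : Set P} (hs : s.Countable)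
    (hspan : Submodule.span R s = ⊤) : Module.Free R P := by
  classical
  obtain ⟨g, hg⟩ := (hs.insert 0).exists_eq_range (Set.insert_nonempty _ _)
  have hstep := fun (σ : State R P) (x : P) => exists_step hP σ.1 σ.2.1 σ.2.2 x
  choose k v q hqv hev hqe hvq using hstep
  have hnext : ∀ (σ : State R P) (x : P), (∀ y, (σ.1 + (v σ x).comp (q σ x)) ((σ.1 + (v σ x).comp (q σ x)) y) =
      (σ.1 + (v σ x).comp (q σ x)) y) ∧
      ∃ Y : Submodule R P, Y.FG ∧ ∀ y, (σ.1 + (v σ x).comp (q σ x)) y ∈ Y := by
    intro σ x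
    refine ⟨fun y => by simp [σ.2.1, hev, hqe, hqv], ?_⟩
    obtain ⟨Y, hY, hYe⟩ := σ.2.2
    refine ⟨Y ⊔ LinearMap.range (v σ x), hY.sup (by rw [LinearMap.range_eq_map]; exact Module.Finite.fg_top.map _),
      fun y => ?_⟩
    exact Submodule.add_mem_sup (hYe y) ⟨_, rfl⟩
  let st : ℕ → State R P := fun n => Nat.rec (motive := fun _ => State R P)
    ⟨0, fun _ => rfl, ⊥, Submodule.fg_bot, fun _ => Submodule.zero_mem _⟩
    (fun n σ => ⟨σ.1 + (v σ (g n)).comp (q σ (g n)), hnext σ (g n)⟩) n
  let e : ℕ → P →ₗ[R] P := fun n => (st n).1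
  let kk : ℕ → ℕ := fun n => k (st n) (g n)
  let V : ∀ n, (Fin (kk n) → R) →ₗ[R] P := fun n => v (st n) (g n)
  let Q : ∀ n, P →ₗ[R] (Fin (kk n) → R) := fun n => q (st n) (g n)
  have he_succ : ∀ n x, e (n + 1) x = e n x + V n (Q n x) := fun n x => rfl
  have hQV : ∀ n a, Q n (V n a) = a := fun n => hqv _ _
  have heV : ∀ n a, e n (V n a) = 0 := fun n => hev _ _
  have hQe : ∀ n x, Q n (e n x) = 0 := fun n => hqe _ _
  have hee : ∀ n x, e n (e n x) = e n x := fun n => (st n).2.1
  have hle : ∀ m a, a ≤ m → ∀ x, e a (e m x) = e a x := by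
    intro m
    induction m with
    | zero => intro a ha x; obtain rfl := Nat.le_zero.mp ha; exact hee 0 x
    | succ m ih =>
      intro a ha x
      rcases Nat.lt_or_eq_of_le ha with h | h
      · have ha' := Nat.lt_succ_iff.mp h
        rw [he_succ, map_add, ih a ha', ← ih a ha' (V m _), heV, map_zero, add_zero]
      · subst h
        exact hee (m + 1) x
  have hQsucc : ∀ n x, Q n (e (n + 1) x) = Q n x := fun n x => by
    rw [he_succ, map_add, hQe, hQV, zero_add]
  have hfix : ∀ a m, a < m → ∀ b, e m (V a b) = V a b := by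
    intro a m ham b
    induction m with
    | zero => exact absurd ham (Nat.not_lt_zero _)
    | succ m ih =>
      rcases Nat.lt_or_eq_of_le (Nat.lt_succ_iff.mp ham) with h | h
      · rw [he_succ, ih h]
        conv_lhs => arg 2; rw [← ih h, hQe, map_zero]
        rw [add_zero]
      · subst h
        rw [he_succ, heV, hQV, zero_add]
  have horth : ∀ a m, a ≠ m → ∀ b, Q a (V m b) = 0 := by
    intro a m ham b
    rcases Nat.lt_or_gt_of_ne ham with h | h
    · rw [← hQsucc, ← hle m (a + 1) h, heV, map_zero, map_zero]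
    · rw [← hfix m a h b, hQe]
  let ι := Σ n, Fin (kk n)
  let w : ι → P := fun x => V x.1 (Pi.single x.2 1)
  have hind : LinearIndependent R w := by
    rw [linearIndependent_iff]
    intro l hl
    ext ⟨n, a⟩
    have h1 := congrFun (congrArg (Q n) hl) a
    rw [Finsupp.linearCombination_apply, map_finsuppSum, map_zero, Pi.zero_apply, Finsupp.sum,
      Finset.sum_apply, Finset.sum_eq_single ⟨n, a⟩] at h1
    · simpa [w, hQV] using h1
    · rintro ⟨m, b⟩ _ hne
      by_cases hmn : n = m
      · subst hmn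
        have : a ≠ b := fun h => hne (h ▸ rfl)
        simp [w, hQV, this]
      · simp [w, horth n m hmn]
    · intro hn
      simp [Finsupp.notMem_support_iff.mp hn]
  have hV : ∀ n b, V n b ∈ Submodule.span R (Set.range w) := by
    intro n b
    rw [pi_eq_sum_univ b, map_sum]
    refine sum_mem fun a _ => ?_
    rw [map_smul]
    refine Submodule.smul_mem _ _ (Submodule.subset_span ⟨⟨n, a⟩, ?_⟩)
    simp only [w]
    congr 1
    funext j
    simp [Pi.single_apply, eq_comm]
  have he : ∀ n x, e n x ∈ Submodule.span R (Set.range w) := by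
    intro n
    induction n with
    | zero => exact fun x => Submodule.zero_mem _
    | succ n ih => exact fun x => by rw [he_succ]; exact add_mem (ih x) (hV n _)
  refine Module.Free.of_basis (Module.Basis.mk hind ?_)
  rw [← hspan, Submodule.span_le]
  intro x hx
  obtain ⟨n, rfl⟩ : x ∈ Set.range g := hg ▸ Set.mem_insert_of_mem _ hx
  have h1 : V n (Q n (g n)) = g n - e n (g n) := hvq _ _
  rw [SetLike.mem_coe, show g n = e n (g n) + V n (Q n (g n)) by rw [h1]; abel]
  exact add_mem (he n _) (hV n _)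

end Groth.Agent.H1Bass
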